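import Groth.Agent.Lib.LimSub.ValPoint
import Mathlib.Algebra.MvPolynomial.Funext
import Mathlib.RingTheory.Ideal.GoingUp

/-!
# Points of algebras over valuation rings avoiding a given hypersurface

Variant of `Lib.LimSub.ValPoint.exists_point`: the lifted point may be required to avoid a given
nonzero element.
-/

set_option autoImplicit false

universe u

open scoped TensorProduct

namespace Groth.Agent.H56.ValPoint.Avoid

open Groth.Agent.Lib.LimSub.ValPoint (exists_primitive isIntegrallyClosed_mvPolynomial)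

variable {V : Type u} [CommRing V] [IsDomain V] [ValuationRing V]

variable {C : Type u} [CommRing C] [IsDomain C] [Algebra V C] [Algebra.FiniteType V C]

/-- Rational points of the closed fibre lift to integral points avoiding a given element. -/
theorem exists_point_avoid (hV : ¬ IsField V) (K : Type u) [Field K] [IsAlgClosed K] [Algebra V K] [IsFractionRing V K]
    (hinj : Function.Injective (algebraMap V C)) {k : Type u} [Field k]
    (ξ : C →+* k) (hm : ∀ v, ξ (algebraMap V C v) = 0 ↔ v ∈ IsLocalRing.maximalIdeal V)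
    (hrat : ∀ c, ∃ v, ξ c = ξ (algebraMap V C v)) {b : C} (hb : b ≠ 0) :
    ∃ σ : C →ₐ[V] V, (∀ c, ξ (algebraMap V C (σ c)) = ξ c) ∧ σ b ≠ 0 := by
  classical
  let m := IsLocalRing.maximalIdeal V
  let mC := m.map (algebraMap V C)
  letI : Field (V ⧸ m) := Ideal.Quotient.field m
  let C₀ := C ⧸ mC
  have hmC : mC ≤ RingHom.ker ξ := Ideal.map_le_iff_le_comap.mpr fun v hv => (hm v).mpr hv
  have : Nontrivial C₀ := Ideal.Quotient.nontrivial_iff.mpr
    (ne_top_of_le_ne_top (RingHom.ker_ne_top ξ) hmC)
  have : Algebra.FiniteType (V ⧸ m) C₀ := Algebra.FiniteType.of_restrictScalars_finiteType V _ _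
  obtain ⟨s, g, hg, hgfin⟩ := exists_finite_inj_algHom_of_fg (V ⧸ m) C₀
  choose c hc using fun i : Fin s => Ideal.Quotient.mk_surjective (g (MvPolynomial.X i))
  choose v hv using fun i : Fin s => hrat (c i)
  let φ : MvPolynomial (Fin s) V →ₐ[V] C := MvPolynomial.aeval fun i => c i - algebraMap V C (v i)
  let P := MvPolynomial (Fin s) V
  let tr : MvPolynomial (Fin s) (V ⧸ m) →ₐ[V ⧸ m] MvPolynomial (Fin s) (V ⧸ m) :=
    MvPolynomial.aeval fun i => MvPolynomial.X i - MvPolynomial.C (Ideal.Quotient.mk m (v i))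
  have htr : Function.Bijective tr := by
    let tr' : MvPolynomial (Fin s) (V ⧸ m) →ₐ[V ⧸ m] MvPolynomial (Fin s) (V ⧸ m) :=
      MvPolynomial.aeval fun i => MvPolynomial.X i + MvPolynomial.C (Ideal.Quotient.mk m (v i))
    exact (AlgEquiv.ofAlgHom tr tr' (MvPolynomial.algHom_ext fun i => by simp [tr, tr'])
      (MvPolynomial.algHom_ext fun i => by simp [tr, tr'])).bijective
  let g' := g.comp tr
  have hcompat : ∀ p : P, Ideal.Quotient.mk mC (φ p) = g' (MvPolynomial.map (Ideal.Quotient.mk m) p) := by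
    refine RingHom.congr_fun (f := (Ideal.Quotient.mk mC).comp φ.toRingHom)
      (g := g'.toRingHom.comp (MvPolynomial.map (Ideal.Quotient.mk m)))
      (MvPolynomial.ringHom_ext (fun a => ?_) fun i => ?_)
    · change Ideal.Quotient.mk mC (φ (MvPolynomial.C a)) =
        g' (MvPolynomial.map (Ideal.Quotient.mk m) (MvPolynomial.C a))
      rw [MvPolynomial.map_C, MvPolynomial.algHom_C, MvPolynomial.algHom_C]
      rfl
    · change Ideal.Quotient.mk mC (φ (MvPolynomial.X i)) =
        g' (MvPolynomial.map (Ideal.Quotient.mk m) (MvPolynomial.X i))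
      simp only [φ, MvPolynomial.aeval_X, map_sub, MvPolynomial.map_X, g', tr, AlgHom.comp_apply,
        MvPolynomial.algHom_C, hc]
      rfl
  have hφinj : Function.Injective φ := by
    rw [injective_iff_map_eq_zero]
    intro p hp
    by_contra h0
    obtain ⟨a, p₁, ha, rfl, d, hd⟩ := exists_primitive h0
    rw [map_mul, MvPolynomial.algHom_C] at hp
    have h1 : φ p₁ = 0 := (mul_eq_zero.mp hp).resolve_left fun h =>
      ha (hinj (h.trans (map_zero _).symm))
    have h2 : g' (MvPolynomial.map (Ideal.Quotient.mk m) p₁) = 0 := by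
      rw [← hcompat, h1, map_zero]
    have h3 : MvPolynomial.map (Ideal.Quotient.mk m) p₁ = 0 :=
      (hg.comp htr.1) (h2.trans (map_zero _).symm)
    have := congrArg (fun q => q.coeff d) h3
    simp [MvPolynomial.coeff_map, hd] at this
  algebraize [φ.toRingHom]
  have : IsScalarTower V P C := IsScalarTower.of_algebraMap_eq fun x => (φ.commutes x).symm
  have : Algebra.FiniteType P C := Algebra.FiniteType.of_restrictScalars_finiteType V _ _
  let q : Ideal C := RingHom.ker ξ
  have : q.IsPrime := RingHom.ker_isPrime ξ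
  let P₁ : Ideal P := q.under P
  have hX : ∀ i, ξ (φ (MvPolynomial.X i)) = 0 := fun i => by simp [φ, ← hv]
  have hqf : Algebra.QuasiFiniteAt P q := by
    obtain ⟨E, hE⟩ : ∃ E : Finset C, ∀ x : C, ∃ y ∈ Submodule.span P (E : Set C), x - y ∈ mC := by
      have hfin : (g'.toRingHom).Finite :=
        RingHom.Finite.comp hgfin (RingHom.Finite.of_surjective _ htr.2)
      letI := g'.toRingHom.toAlgebra
      obtain ⟨T, hT⟩ := hfin.fg_top
      choose l hl using fun t : C₀ => Ideal.Quotient.mk_surjective t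
      refine ⟨T.image l, fun x => ?_⟩
      have key : ∀ z : C₀, ∃ y ∈ Submodule.span P (T.image l : Set C), Ideal.Quotient.mk mC y = z := by
        intro z
        have hz : z ∈ Submodule.span (MvPolynomial (Fin s) (V ⧸ m)) (T : Set C₀) := hT ▸ trivial
        induction hz using Submodule.span_induction with
        | mem z hz =>
          exact ⟨l z, Submodule.subset_span (Finset.mem_coe.mpr (Finset.mem_image_of_mem l hz)), hl z⟩
        | zero => exact ⟨0, zero_mem _, map_zero _⟩
        | add a b _ _ ha hb =>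
          obtain ⟨a', ha', rfl⟩ := ha
          obtain ⟨b', hb', rfl⟩ := hb
          exact ⟨a' + b', add_mem ha' hb', map_add _ _ _⟩
        | smul p b _ hb =>
          obtain ⟨b', hb', rfl⟩ := hb
          obtain ⟨p', rfl⟩ := MvPolynomial.map_surjective (Ideal.Quotient.mk m)
            Ideal.Quotient.mk_surjective p
          refine ⟨p' • b', Submodule.smul_mem _ p' hb', ?_⟩
          rw [Algebra.smul_def, map_mul]
          change Ideal.Quotient.mk mC (φ p') * _ = g' _ * _
          rw [hcompat]
      obtain ⟨y, hy, e⟩ := key (Ideal.Quotient.mk mC x)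
      exact ⟨y, hy, Ideal.Quotient.eq.mp e.symm⟩
    have : Module.Finite P₁.ResidueField (P₁.Fiber C) := by
      refine ⟨⟨E.image fun e => 1 ⊗ₜ[P] e, ?_⟩⟩
      rw [Finset.coe_image, eq_top_iff]
      rintro t -
      induction t using TensorProduct.induction_on with
      | zero => exact zero_mem _
      | add a b ha hb => exact add_mem ha hb
      | tmul a x =>
        obtain ⟨y, hy, hxy⟩ := hE x
        have h0 : ∀ z ∈ mC, (1 : P₁.ResidueField) ⊗ₜ[P] z = 0 := fun z hz => by
          refine Submodule.span_induction (fun z hz => ?_) (TensorProduct.tmul_zero _ _)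
            (fun a b _ _ ha hb => by rw [TensorProduct.tmul_add, ha, hb, add_zero])
            (fun a b _ hb => ?_) hz
          · obtain ⟨w, hw, rfl⟩ := hz
            rw [IsScalarTower.algebraMap_apply V P C, Algebra.algebraMap_eq_smul_one (A := C),
              TensorProduct.tmul_smul, TensorProduct.smul_tmul', ← Algebra.algebraMap_eq_smul_one,
              Ideal.algebraMap_residueField_eq_zero.mpr, TensorProduct.zero_tmul]
            change ξ (φ (algebraMap V P w)) = 0
            rw [φ.commutes]; exact (hm w).mpr hw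
          · have := congrArg (fun t => ((1 : P₁.ResidueField) ⊗ₜ[P] a) * t) hb
            simpa [Algebra.TensorProduct.tmul_mul_tmul] using this
        have hx : a ⊗ₜ[P] x = a • ((1 : P₁.ResidueField) ⊗ₜ[P] y) := by
          conv_lhs => rw [← sub_add_cancel x y]
          rw [TensorProduct.tmul_add, TensorProduct.smul_tmul', smul_eq_mul, mul_one]
          have := congrArg (a • ·) (h0 _ hxy)
          simp only [TensorProduct.smul_tmul', smul_eq_mul, mul_one, smul_zero] at this
          rw [this, zero_add]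
        rw [hx]
        refine Submodule.smul_mem _ _ ?_
        refine Submodule.span_induction (fun z hz => Submodule.subset_span ⟨z, hz, rfl⟩)
          (by rw [TensorProduct.tmul_zero]; exact zero_mem _)
          (fun a b _ _ ha hb => by rw [TensorProduct.tmul_add]; exact add_mem ha hb)
          (fun p b _ hb => by
            rw [TensorProduct.tmul_smul, ← IsScalarTower.algebraMap_smul P₁.ResidueField p]
            exact Submodule.smul_mem _ _ hb) hy
    obtain ⟨Q, hQ⟩ : ∃ Q : PrimeSpectrum (P₁.Fiber C),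
        Q.asIdeal.comap Algebra.TensorProduct.includeRight.toRingHom = q := by
      let e := PrimeSpectrum.preimageHomeomorphFiber P C ⟨P₁, inferInstance⟩
      exact ⟨e ⟨⟨q, inferInstance⟩, rfl⟩,
        congr($(e.symm_apply_apply ⟨⟨q, inferInstance⟩, rfl⟩).1.asIdeal)⟩
    exact .of_quasiFiniteAt_residueField P₁ q Q.asIdeal hQ
  obtain ⟨r, hr, hbij⟩ := Algebra.ZariskisMainProperty.of_finiteType (R := P) q
  let S := integralClosure P C
  have : IsIntegrallyClosed P := isIntegrallyClosed_mvPolynomial V s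
  have : FaithfulSMul P S := (faithfulSMul_iff_algebraMap_injective _ _).mpr fun a b h =>
    hφinj (congrArg Subtype.val h)
  let q' : Ideal S := q.comap S.val.toRingHom
  obtain ⟨bS, hbS, hbS'⟩ : ∃ x : S, x ≠ 0 ∧ ∃ n : ℕ, x.1 = r.1 ^ n * b := by
    obtain ⟨y, hy⟩ := hbij.2 (algebraMap C _ b)
    obtain ⟨y, ⟨_, n, rfl⟩, rfl⟩ := IsLocalization.exists_mk'_eq (Submonoid.powers r) y
    rw [Localization.awayMap, IsLocalization.Away.map, IsLocalization.map_mk',
      IsLocalization.mk'_eq_iff_eq_mul, ← map_mul, IsLocalization.eq_iff_exists (Submonoid.powers (S.val.toRingHom r))] at hy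
    obtain ⟨⟨_, k', rfl⟩, hk⟩ := hy
    have hr0 : r.1 ≠ 0 := fun h => hr (by rw [h]; exact zero_mem _)
    refine ⟨r ^ k' * y, ?_, k' + n, ?_⟩
    · intro h
      refine mul_ne_zero (pow_ne_zero (k' + n) hr0) hb ?_
      have := congrArg Subtype.val h
      change r.1 ^ k' * y.1 = 0 at this
      simp only [map_pow] at hk
      change r.1 ^ k' * y.1 = r.1 ^ k' * (b * r.1 ^ n) at hk
      rw [← this, hk]; ring
    · simp only [map_pow] at hk
      change r.1 ^ k' * y.1 = r.1 ^ k' * (b * r.1 ^ n) at hk
      change r.1 ^ k' * y.1 = r.1 ^ (k' + n) * b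
      rw [hk]; ring
  obtain ⟨H, hH, hH0⟩ : ∃ H : P, algebraMap P S H ∈ Ideal.span {bS} ∧ H ≠ 0 := by
    by_contra hcon
    push Not at hcon
    exact hbS (Ideal.span_singleton_eq_bot.mp
      (Ideal.eq_bot_of_comap_eq_bot (R := P) ((Submodule.eq_bot_iff _).mpr hcon)))
  obtain ⟨cv, hcv, hHc⟩ : ∃ cv : Fin s → V, (∀ i, cv i ∈ m) ∧ MvPolynomial.eval cv H ≠ 0 := by
    by_contra hcon
    push Not at hcon
    obtain ⟨π, hπ, hπ0⟩ := Submodule.exists_mem_ne_zero_of_ne_bot
      (show m ≠ ⊥ from
        fun h => hV (IsLocalRing.isField_iff_maximalIdeal_eq.mpr h))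
    have hVinf : Infinite V := not_finite_iff_infinite.mp fun _ => hV (Finite.isField_of_domain V)
    have hinf : (m : Set V).Infinite := (Set.infinite_range_of_injective
      (mul_right_injective₀ hπ0)).mono (by
        rintro _ ⟨v, rfl⟩
        exact Ideal.mul_mem_right v m hπ)
    refine hH0 (MvPolynomial.funext_set (fun _ => (m : Set V)) (fun _ => hinf) fun x hx => ?_)
    rw [hcon x fun i => hx i trivial, map_zero]
  let cc : P →+* V := MvPolynomial.eval cv
  let P₀ : Ideal P := RingHom.ker cc
  have : P₀.IsPrime := RingHom.ker_isPrime _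
  have hconst : ∀ p : P, ξ (φ p) = ξ (algebraMap V C (cc p)) :=
    RingHom.congr_fun (f := ξ.comp φ.toRingHom)
      (g := (ξ.comp (algebraMap V C)).comp cc)
      (MvPolynomial.ringHom_ext (fun a => by simp [φ, cc]) fun i => by
        simp [hX, cc, (hm _).mpr (hcv i)])
  have hle : P₀ ≤ q'.under P := fun p (hp : cc p = 0) => by
    change ξ (φ p) = 0
    rw [hconst, hp, map_zero, map_zero]
  obtain ⟨p', hp'le, hp', hp'over⟩ :=
    Ideal.exists_ideal_le_liesOver_of_le (p := P₀) (q := q'.under P) q' hle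
  have hP₀ : ∀ p : P, cc p = 0 ↔ algebraMap P S p ∈ p' := fun p => by
    change p ∈ P₀ ↔ _
    rw [hp'over.over]
    rfl
  let T := S ⧸ p'
  have hsub : ∀ p : P, Ideal.Quotient.mk p' (algebraMap P S p) =
      algebraMap V T (cc p) := fun p => by
    rw [IsScalarTower.algebraMap_apply V S T, IsScalarTower.algebraMap_apply V P S]
    refine Ideal.Quotient.eq.mpr ?_
    rw [← map_sub, ← hP₀]
    simp [P, cc, MvPolynomial.algebraMap_eq]
  have hinjT : Function.Injective (algebraMap V T) := by
    rw [injective_iff_map_eq_zero]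
    intro a ha
    rw [IsScalarTower.algebraMap_apply V S T, IsScalarTower.algebraMap_apply V P S,
      Ideal.Quotient.algebraMap_eq, Ideal.Quotient.eq_zero_iff_mem, ← hP₀] at ha
    simpa [P, cc, MvPolynomial.algebraMap_eq] using ha
  have : Algebra.IsIntegral V T := ⟨fun x => by
    obtain ⟨x, rfl⟩ := Ideal.Quotient.mk_surjective x
    obtain ⟨f, hf, hfx⟩ := Algebra.IsIntegral.isIntegral (R := P) x
    refine ⟨f.map cc, hf.map _, ?_⟩
    rw [Polynomial.eval₂_map,
      show (algebraMap V T).comp cc =
        (Ideal.Quotient.mk p').comp (algebraMap P S) from RingHom.ext fun p => (hsub p).symm,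
      ← Polynomial.hom_eval₂, hfx, map_zero]⟩
  have : FaithfulSMul V T := (faithfulSMul_iff_algebraMap_injective _ _).mpr hinjT
  let τ₀ : T →ₐ[V] K := IsAlgClosed.lift
  have hτ₀ : Function.Injective τ₀ := by
    show Function.Injective τ₀.toRingHom
    rw [RingHom.injective_iff_ker_eq_bot]
    refine Ideal.eq_bot_of_comap_eq_bot (R := V) ((RingHom.comap_ker _ _).trans ?_)
    rw [← RingHom.injective_iff_ker_eq_bot]
    convert IsFractionRing.injective V K using 1
    funext a
    exact τ₀.commutes a
  have hmem : ∀ x : T, τ₀ x ∈ (Algebra.ofId V K).range := fun x =>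
    IsIntegrallyClosed.isIntegral_iff.mp ((Algebra.IsIntegral.isIntegral (R := V) x).map τ₀)
  let eV : V ≃ₐ[V] (Algebra.ofId V K).range :=
    AlgEquiv.ofInjective (Algebra.ofId V K) (IsFractionRing.injective V K)
  let τ : S →ₐ[V] V := (eV.symm.toAlgHom.comp (τ₀.codRestrict _ hmem)).comp
    (Ideal.Quotient.mkₐ V p')
  have hτker : ∀ x : S, τ x = 0 → x ∈ p' := fun x hx => by
    refine Ideal.Quotient.eq_zero_iff_mem.mp (hτ₀ ?_)
    have : (eV.symm (τ₀.codRestrict _ hmem (Ideal.Quotient.mk p' x))) = 0 := hx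
    rw [map_eq_zero_iff _ eV.symm.injective] at this
    exact (congrArg Subtype.val this).trans (map_zero _).symm
  have hτξ : ∀ x : S, ξ x.1 = ξ (algebraMap V C (τ x)) := fun x => by
    have h := hp'le (hτker (x - algebraMap V S (τ x)) (by simp))
    change ξ (x - algebraMap V S (τ x) : S).1 = 0 at h
    rwa [AddSubgroupClass.coe_sub, map_sub, sub_eq_zero] at h
  have hu : IsUnit (τ r) := by
    by_contra hnu
    exact hr ((hτξ r).trans ((hm _).mpr ((IsLocalRing.mem_maximalIdeal _).mpr hnu)))
  let e := RingEquiv.ofBijective _ hbij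
  let σ₀ : C →+* V := ((IsLocalization.Away.lift (S := Localization.Away r) r (g := τ.toRingHom) hu).comp
    e.symm.toRingHom).comp (algebraMap C (Localization.Away (S.val.toRingHom r)))
  have hσS : ∀ x : S, σ₀ x.1 = τ x := fun x => by
    have : e.symm (algebraMap C (Localization.Away (S.val.toRingHom r)) x.1) =
        algebraMap S (Localization.Away r) x := by
      rw [RingEquiv.symm_apply_eq]
      change _ = Localization.awayMap S.val.toRingHom r _
      rw [Localization.awayMap, IsLocalization.Away.map, IsLocalization.map_eq]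
      rfl
    change IsLocalization.Away.lift r hu (e.symm _) = _
    rw [this, IsLocalization.Away.lift_eq]
    rfl
  let σ : C →ₐ[V] V :=
    { σ₀ with
      commutes' := fun a => (hσS (algebraMap V S a)).trans (τ.commutes a) }
  refine ⟨σ, fun x => ?_, fun hσb => hHc ?_⟩
  rotate_left
  · have h0 : τ bS = 0 := by
      obtain ⟨N, hN⟩ := hbS'
      rw [← hσS bS, hN, map_mul]
      exact mul_eq_zero_of_right _ hσb
    obtain ⟨z, hz⟩ := Ideal.mem_span_singleton.mp hH
    exact (hP₀ H).mpr (hz ▸ Ideal.mul_mem_right z _ (hτker bS h0))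
  obtain ⟨n, hn⟩ : ∃ n : ℕ, r.1 ^ n * x ∈ S := by
    obtain ⟨y, hy⟩ := hbij.2 (algebraMap C _ x)
    obtain ⟨y, ⟨_, n, rfl⟩, rfl⟩ := IsLocalization.exists_mk'_eq (Submonoid.powers r) y
    rw [Localization.awayMap, IsLocalization.Away.map, IsLocalization.map_mk',
      IsLocalization.mk'_eq_iff_eq_mul, ← map_mul, IsLocalization.eq_iff_exists (Submonoid.powers (S.val.toRingHom r))] at hy
    obtain ⟨⟨_, k, rfl⟩, hk⟩ := hy
    refine ⟨k + n, ?_⟩
    have : r.1 ^ (k + n) * x = (r ^ k * y : S).1 := by
      simp only [map_pow] at hk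
      change r.1 ^ (k + n) * x = r.1 ^ k * y.1
      change r.1 ^ k * y.1 = r.1 ^ k * (x * r.1 ^ n) at hk
      rw [hk]; ring
    rw [this]; exact (r ^ k * y).2
  have hrne : ξ r.1 ^ n ≠ 0 := pow_ne_zero _ hr
  refine mul_left_cancel₀ hrne ?_
  have h1 : σ₀ (r.1 ^ n * x) = τ ⟨_, hn⟩ := hσS ⟨_, hn⟩
  rw [map_mul, map_pow, hσS r] at h1
  have h2 := hτξ ⟨_, hn⟩
  change ξ (r.1 ^ n * x) = ξ (algebraMap V C (τ ⟨_, hn⟩)) at h2
  rw [← h1, map_mul, map_mul, map_mul, map_pow, map_pow, map_pow, ← hτξ r] at h2
  exact h2.symm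

end Groth.Agent.H56.ValPoint.Avoid
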