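import Groth.Agent.H56.ValPoint.Avoid
import Groth.Agent.H80.SepClosedNormal
import Mathlib.RingTheory.Valuation.LocalSubring
import Mathlib.FieldTheory.IsAlgClosed.AlgebraicClosure
import Mathlib.FieldTheory.AlgebraicClosure

/-!
# Closed points of a fibre between two points related by specialisation
-/

set_option autoImplicit false
set_option linter.style.haveILetI false
noncomputable section

universe u

namespace Groth.Agent.H56.ValPoint.Between

/-- For an injective finite type extension of domains `A → B`, a prime `P` maximal in its fibre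
over a nonzero prime, and `b ≠ 0`, there is a prime `q ≤ P` avoiding `b` and maximal among the
primes over `0`. -/
theorem exists_prime_between {A B : Type u} [CommRing A] [IsDomain A] [CommRing B] [IsDomain B]
    [Algebra A B] [Algebra.FiniteType A B] (hinj : Function.Injective (algebraMap A B))
    (P : Ideal B) [P.IsPrime] (hP0 : P.under A ≠ ⊥)
    (hmax : ∀ P' : Ideal B, P'.IsPrime → P ≤ P' → P'.under A = P.under A → P' = P)
    (b : B) (hb : b ≠ 0) :
    ∃ q : Ideal B, q.IsPrime ∧ q ≤ P ∧ b ∉ q ∧ q.under A = ⊥ ∧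
      ∀ q' : Ideal B, q'.IsPrime → q ≤ q' → q'.under A = ⊥ → q' = q := by
  classical
  let L := AlgebraicClosure (FractionRing B)
  have hBL : Function.Injective (algebraMap B L) := by
    rw [IsScalarTower.algebraMap_eq B (FractionRing B) L]
    exact (algebraMap (FractionRing B) L).injective.comp (IsFractionRing.injective B _)
  let j : A →+* L := (algebraMap B L).comp (algebraMap A B)
  have hj : Function.Injective j := hBL.comp hinj
  let K₀ := FractionRing A
  letI : Algebra K₀ L := (IsFractionRing.lift hj : K₀ →+* L).toAlgebra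
  have hK₀ : ∀ a, algebraMap K₀ L (algebraMap A K₀ a) = j a := fun a =>
    IsFractionRing.lift_algebraMap hj a
  let Kb : IntermediateField K₀ L := algebraicClosure K₀ L
  haveI : IsAlgClosed Kb := (inferInstance : IsAlgClosure K₀ Kb).isAlgClosed
  obtain ⟨W, hPW, hlocW⟩ := LocalSubring.exists_le_valuationSubring
    (LocalSubring.range (IsLocalization.lift (M := P.primeCompl) (S := Localization.AtPrime P)
      (g := algebraMap B L) fun y => isUnit_iff_ne_zero.2 fun h =>
        y.2 (by rw [hBL (h.trans (map_zero _).symm)]; exact zero_mem _)))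
  have hBW : ∀ x : B, algebraMap B L x ∈ W := fun x =>
    hPW ⟨algebraMap B (Localization.AtPrime P) x, IsLocalization.lift_eq _ x⟩
  let φW : B →+* W := (algebraMap B L).codRestrict W.toSubring hBW
  have hφW : ∀ x, φW x ∈ IsLocalRing.maximalIdeal W ↔ x ∈ P := by
    intro x
    let lft : Localization.AtPrime P →+* L :=
      IsLocalization.lift (M := P.primeCompl) (S := Localization.AtPrime P)
        (g := algebraMap B L) fun y => isUnit_iff_ne_zero.2 fun h =>
          y.2 (by rw [hBL (h.trans (map_zero _).symm)]; exact zero_mem _)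
    have hl : IsLocalHom (lft.codRestrict W.toSubring fun z => hPW ⟨z, rfl⟩) :=
      @RingHom.isLocalHom_comp _ _ _ _ _ _ (Subring.inclusion hPW) lft.rangeRestrict hlocW
        (.of_surjective _ lft.rangeRestrict_surjective)
    have he : φW x = lft.codRestrict W.toSubring (fun z => hPW ⟨z, rfl⟩)
        (algebraMap B (Localization.AtPrime P) x) := Subtype.ext (IsLocalization.lift_eq _ x).symm
    rw [IsLocalRing.mem_maximalIdeal, mem_nonunits_iff, he,
      isUnit_map_iff (lft.codRestrict W.toSubring fun z => hPW ⟨z, rfl⟩),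
      IsLocalization.AtPrime.isUnit_to_map_iff (Localization.AtPrime P) P]
    simp
  let V : ValuationSubring Kb := W.comap (algebraMap Kb L)
  let ι : V →+* W := ((algebraMap Kb L).comp V.subtype).codRestrict W.toSubring fun v => v.2
  haveI : IsLocalHom ι := ⟨fun v hv => by
    obtain ⟨w, hw⟩ := isUnit_iff_exists_inv.1 hv
    have hv0 : (v : Kb) ≠ 0 := fun h => by
      have h1 := congrArg (fun z : W => (z : L)) hw
      simp only [MulMemClass.coe_mul, OneMemClass.coe_one] at h1
      rw [show ((ι v : W) : L) = algebraMap Kb L (v : Kb) from rfl, h, map_zero, zero_mul] at h1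
      exact zero_ne_one h1
    have h1 : algebraMap Kb L ((v : Kb)⁻¹) = (w : L) := by
      rw [map_inv₀]
      exact inv_eq_of_mul_eq_one_right (congrArg (fun z : W => (z : L)) hw)
    exact isUnit_iff_exists_inv.2 ⟨⟨(v : Kb)⁻¹, (h1 ▸ w.2 : algebraMap Kb L ((v : Kb)⁻¹) ∈ W)⟩,
      Subtype.ext (mul_inv_cancel₀ hv0)⟩⟩
  have hι : ∀ v, ι v ∈ IsLocalRing.maximalIdeal W ↔ v ∈ IsLocalRing.maximalIdeal V := fun v => by
    rw [IsLocalRing.mem_maximalIdeal, mem_nonunits_iff, IsLocalRing.mem_maximalIdeal,
      mem_nonunits_iff, isUnit_map_iff ι]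
  have hAK : ∀ a : A, algebraMap Kb L (algebraMap K₀ Kb (algebraMap A K₀ a)) = j a := fun a => by
    rw [← IsScalarTower.algebraMap_apply K₀ Kb L, hK₀]
  have hAV : ∀ a : A, algebraMap K₀ Kb (algebraMap A K₀ a) ∈ V := fun a => by
    show algebraMap Kb L _ ∈ W
    rw [hAK]; exact hBW _
  let φV : A →+* V := ((algebraMap K₀ Kb).comp (algebraMap A K₀)).codRestrict V.toSubring hAV
  have hVW : ∀ a, ι (φV a) = φW (algebraMap A B a) := fun a => Subtype.ext (hAK a)
  have hAVm : ∀ a, φV a ∈ IsLocalRing.maximalIdeal V ↔ a ∈ P.under A := fun a => by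
    rw [← hι, hVW, hφW]; rfl
  have hmV : IsLocalRing.maximalIdeal V ≠ ⊥ := by
    obtain ⟨a, ha, ha0⟩ := Submodule.exists_mem_ne_zero_of_ne_bot hP0
    intro hbot
    have h1 := (hAVm a).2 ha
    rw [hbot, Ideal.mem_bot] at h1
    have h2 : algebraMap Kb L (algebraMap K₀ Kb (algebraMap A K₀ a)) = 0 := by
      rw [show algebraMap K₀ Kb (algebraMap A K₀ a) = ((φV a : V) : Kb) from rfl, h1]
      simp
    exact ha0 (hj ((hAK a).symm.trans (h2.trans (map_zero j).symm)))
  have hV : ¬ IsField V := fun h => hmV (IsLocalRing.isField_iff_maximalIdeal_eq.1 h)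
  haveI : IsAlgClosed (IsLocalRing.ResidueField V) :=
    H80.SepClosedNormal.isAlgClosed_residueField (R := V) Kb hmV
  letI : Algebra V L := ((algebraMap Kb L).comp V.subtype).toAlgebra
  obtain ⟨T, hT⟩ := (inferInstance : Algebra.FiniteType A B).out
  let C : Subalgebra V L := Algebra.adjoin V (algebraMap B L '' (T : Set B))
  haveI : Algebra.FiniteType V C :=
    C.fg_iff_finiteType.1 ⟨T.image (algebraMap B L), by rw [Finset.coe_image]⟩
  have hBC : ∀ x : B, algebraMap B L x ∈ C := fun x => by
    have hx : x ∈ Algebra.adjoin A (T : Set B) := hT ▸ Algebra.mem_top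
    induction hx using Algebra.adjoin_induction with
    | mem x hx => exact Algebra.subset_adjoin ⟨x, hx, rfl⟩
    | algebraMap a =>
      show j a ∈ C
      rw [← hAK]; exact C.algebraMap_mem (φV a)
    | add x y _ _ hx hy => rw [map_add]; exact C.add_mem hx hy
    | mul x y _ _ hx hy => rw [map_mul]; exact C.mul_mem hx hy
  let φC : B →+* C := (algebraMap B L).codRestrict C hBC
  have hCW : ∀ z : C, (z : L) ∈ W := by
    rintro ⟨z, hz⟩
    show z ∈ W
    induction hz using Algebra.adjoin_induction with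
    | mem x hx => obtain ⟨y, -, rfl⟩ := hx; exact hBW y
    | algebraMap v => exact v.2
    | add x y _ _ hx hy => exact W.add_mem _ _ hx hy
    | mul x y _ _ hx hy => exact W.mul_mem _ _ hx hy
  let χ : C →+* W := C.val.toRingHom.codRestrict W.toSubring hCW
  obtain ⟨Q, hQ, hle⟩ := Ideal.exists_le_maximal _
    (Ideal.comap_ne_top χ (IsLocalRing.maximalIdeal.isMaximal W).ne_top)
  have hVC : ∀ v, χ (algebraMap V C v) = ι v := fun v => rfl
  have hQV : ∀ v, algebraMap V C v ∈ Q ↔ v ∈ IsLocalRing.maximalIdeal V := fun v =>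
    ⟨fun h => (IsLocalRing.mem_maximalIdeal _).2 fun hu =>
        hQ.ne_top (Ideal.eq_top_of_isUnit_mem _ h (hu.map _)),
      fun h => hle (by show χ (algebraMap V C v) ∈ IsLocalRing.maximalIdeal W; rw [hVC, hι]; exact h)⟩
  letI := Ideal.Quotient.field Q
  let k := IsLocalRing.ResidueField V
  let gV : V →+* C ⧸ Q := (Ideal.Quotient.mk Q).comp (algebraMap V C)
  haveI : IsLocalHom gV := ⟨fun v hv => by
    by_contra hu
    refine hv.ne_zero ?_
    exact Ideal.Quotient.eq_zero_iff_mem.2 ((hQV v).2 ((IsLocalRing.mem_maximalIdeal _).2 hu))⟩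
  letI : Algebra k (C ⧸ Q) := (IsLocalRing.ResidueField.lift gV).toAlgebra
  haveI : IsScalarTower V k (C ⧸ Q) := IsScalarTower.of_algebraMap_eq fun v => (IsLocalRing.ResidueField.lift_residue_apply gV v).symm
  haveI : Algebra.FiniteType k (C ⧸ Q) := Algebra.FiniteType.of_restrictScalars_finiteType V k _
  haveI : Module.Finite k (C ⧸ Q) := finite_of_finite_type_of_isJacobsonRing k (C ⧸ Q)
  have hrat : ∀ c : C, ∃ v : V, Ideal.Quotient.mk Q c = Ideal.Quotient.mk Q (algebraMap V C v) := by
    intro c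
    obtain ⟨y, hy⟩ := (IsAlgClosed.algebraMap_bijective_of_isIntegral (k := k) (K := C ⧸ Q)).2
      (Ideal.Quotient.mk Q c)
    obtain ⟨v, rfl⟩ := IsLocalRing.residue_surjective y
    exact ⟨v, hy.symm⟩
  have hbC : φC b ≠ 0 := fun h => hb (hBL ((congrArg Subtype.val h).trans (map_zero _).symm))
  have hVCinj : Function.Injective (algebraMap V C) := fun v w h =>
    Subtype.ext ((algebraMap Kb L).injective
      (show algebraMap Kb L (v : Kb) = algebraMap Kb L (w : Kb) from congrArg (Subtype.val : C → L) h))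
  obtain ⟨σ, hσ, hσb⟩ := Avoid.exists_point_avoid hV Kb hVCinj (Ideal.Quotient.mk Q)
    (fun v => Ideal.Quotient.eq_zero_iff_mem.trans (hQV v)) hrat hbC
  let σB : B →+* V := σ.toRingHom.comp φC
  have hQP : Q.comap φC = P := by
    refine hmax _ (Ideal.IsPrime.comap φC) (fun x hx => hle ?_) ?_
    · show χ (φC x) ∈ IsLocalRing.maximalIdeal W
      rw [show χ (φC x) = φW x from rfl, hφW]
      exact hx
    · ext a
      rw [← hAVm, ← hQV]
      exact Iff.of_eq (congrArg (· ∈ Q) (Subtype.ext (hAK a).symm))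
  have hσA : ∀ a, σB (algebraMap A B a) = φV a := fun a => by
    have : φC (algebraMap A B a) = algebraMap V C (φV a) := Subtype.ext (hAK a).symm
    show σ (φC (algebraMap A B a)) = _
    rw [this, σ.commutes]
    rfl
  have hφV : Function.Injective φV := fun a a' h => hj (by
    rw [← hAK, ← hAK]
    exact congrArg (algebraMap Kb L) (congrArg Subtype.val h))
  have hq0 : (RingHom.ker σB).under A = ⊥ := by
    refine (Submodule.eq_bot_iff _).2 fun a ha => hφV ?_
    rw [← hσA, map_zero]
    exact ha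
  refine ⟨RingHom.ker σB, RingHom.ker_isPrime _, fun x hx => ?_, hσb, hq0, ?_⟩
  · rw [← hQP]
    show φC x ∈ Q
    rw [← Ideal.Quotient.eq_zero_iff_mem, ← hσ, show σ (φC x) = 0 from hx, map_zero, map_zero]
  intro q' hq' hle' hq'0
  refine le_antisymm (fun x hx => ?_) hle'
  by_contra hx0
  haveI : Algebra.IsAlgebraic K₀ Kb := algebraicClosure.isAlgebraic K₀ L
  letI : Algebra A Kb := ((algebraMap K₀ Kb).comp (algebraMap A K₀)).toAlgebra
  haveI : IsScalarTower A K₀ Kb := IsScalarTower.of_algebraMap_eq fun _ => rfl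
  haveI : Algebra.IsAlgebraic A K₀ := IsLocalization.isAlgebraic K₀ (nonZeroDivisors A)
  haveI : Algebra.IsAlgebraic A Kb := Algebra.IsAlgebraic.trans A K₀ Kb
  letI : Algebra A V := φV.toAlgebra
  let τ : B →ₐ[A] V := { σB with commutes' := hσA }
  let δ : V →ₐ[A] Kb := { V.subtype with commutes' := fun a => rfl }
  haveI : Algebra.IsAlgebraic A (B ⧸ RingHom.ker τ) :=
    Algebra.IsAlgebraic.of_injective (δ.comp (Ideal.kerLiftAlg τ))
      (Subtype.val_injective.comp (Ideal.kerLiftAlg_injective τ))
  haveI : (RingHom.ker τ).IsPrime := RingHom.ker_isPrime _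
  have hxne : Ideal.Quotient.mk (RingHom.ker τ) x ≠ 0 := fun h =>
    hx0 (Ideal.Quotient.eq_zero_iff_mem.1 h)
  obtain ⟨a, ha, z, hz⟩ := (Algebra.IsAlgebraic.isAlgebraic (R := A)
    (Ideal.Quotient.mk (RingHom.ker τ) x)).exists_nonzero_dvd (mem_nonZeroDivisors_of_ne_zero hxne)
  obtain ⟨z, rfl⟩ := Ideal.Quotient.mk_surjective z
  rw [← map_mul, ← Ideal.Quotient.mk_algebraMap, Ideal.Quotient.eq] at hz
  refine ha ?_
  rw [← Ideal.mem_bot, ← hq'0]
  show algebraMap A B a ∈ q'
  have h1 : algebraMap A B a - x * z ∈ q' := hle' hz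
  simpa using add_mem h1 (q'.mul_mem_right z hx)

end Groth.Agent.H56.ValPoint.Between
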